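import Groth.Agent.Lib.Chev28.FlatUniv
import Groth.Agent.Lib.AlgSp.GeomReduced
import Groth.Agent.Lib.FiltImm14.Basic
import Groth.Prelude.Def_EGA43

/-!
# Fibres of closed subschemes and geometric reducedness
-/

universe u

set_option autoImplicit false
set_option linter.style.haveILetI false
set_option backward.isDefEq.respectTransparency false
set_option maxHeartbeats 600000

open CategoryTheory CategoryTheory.Limits AlgebraicGeometry TopologicalSpace Topology IsLocalRing

noncomputable section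

namespace GrothLib.AdmComp5

variable {X Y P : Scheme.{u}}

/-- Geometric reducedness in a fibre, at a point of the total space. -/
def GR (f : X ⟶ Y) (p : X) : Prop := FBase.IsGeomReducedAt (f.fiberToSpecResidueField (f p)) (f.asFiber p)

theorem GR_iff (f : X ⟶ Y) (y : Y) (w : f.fiber y) (p : X) (hp : f.fiberι y w = p) :
    FBase.IsGeomReducedAt (f.fiberToSpecResidueField y) w ↔ GR f p := by
  obtain rfl : y = f p := by
    have hm : f.fiberι y w ∈ Set.range (f.fiberι y) := ⟨w, rfl⟩
    rw [Scheme.Hom.range_fiberι, hp] at hm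
    exact hm.symm
  obtain rfl : w = f.asFiber p := (f.fiberι _).isEmbedding.injective (hp.trans (f.fiberι_asFiber _).symm)
  rfl

/-- Geometric reducedness is insensitive to a morphism which is an isomorphism near the point. -/
theorem isGeomReducedAt_comp_iff {k : Type u} [Field k] {G F : Scheme.{u}} (q : F ⟶ Spec (CommRingCat.of k))
    (j : G ⟶ F) (p : G) (W : F.Opens) (hp : j p ∈ W) [IsIso (j ∣_ W)] :
    FBase.IsGeomReducedAt (j ≫ q) p ↔ FBase.IsGeomReducedAt q (j p) := by
  let V := j ⁻¹ᵁ W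
  let v : V := ⟨p, hp⟩
  let e : (V : Scheme.{u}) ⟶ F := (j ∣_ W) ≫ W.ι
  have he : e = V.ι ≫ j := morphismRestrict_ι j W
  haveI : IsOpenImmersion e := inferInstance
  have h1 := GrothLib.AlgSp.isGeomReducedAt_iff_of_etale V.ι (j ≫ q) v
  have h2 := GrothLib.AlgSp.isGeomReducedAt_iff_of_etale e q v
  have e1 : e ≫ q = V.ι ≫ j ≫ q := by rw [he, Category.assoc]
  have e2 : e v = j p := by rw [he]; rfl
  rw [e1, e2] at h2
  exact h1.symm.trans h2

variable (f : X ⟶ Y) (ι : P ⟶ X) (y : Y)

/-- The map of fibres induced by `ι`. -/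
def fibMap : (ι ≫ f).fiber y ⟶ f.fiber y :=
  pullback.lift ((ι ≫ f).fiberι y ≫ ι) ((ι ≫ f).fiberToSpecResidueField y)
    (by rw [Category.assoc]; exact pullback.condition)

theorem fibMap_ι : fibMap f ι y ≫ f.fiberι y = (ι ≫ f).fiberι y ≫ ι := pullback.lift_fst _ _ _

theorem fibMap_toSpec : fibMap f ι y ≫ f.fiberToSpecResidueField y = (ι ≫ f).fiberToSpecResidueField y :=
  pullback.lift_snd _ _ _

theorem fibMap_apply (w : (ι ≫ f).fiber y) : f.fiberι y (fibMap f ι y w) = ι ((ι ≫ f).fiberι y w) :=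
  congrArg (fun m : (ι ≫ f).fiber y ⟶ X => m w) (fibMap_ι f ι y)

theorem isPullback_fibMap : IsPullback ((ι ≫ f).fiberι y) (fibMap f ι y) ι (f.fiberι y) := by
  refine IsPullback.of_bot (v₂₁ := f.fiberToSpecResidueField y) (v₂₂ := f) (h₃₁ := Y.fromSpecResidueField y)
    ?_ (fibMap_ι f ι y).symm (IsPullback.of_hasPullback f _)
  rw [fibMap_toSpec]
  exact IsPullback.of_hasPullback (ι ≫ f) _

theorem isClosedImmersion_fibMap [IsClosedImmersion ι] : IsClosedImmersion (fibMap f ι y) :=
  MorphismProperty.of_isPullback (P := @IsClosedImmersion) (isPullback_fibMap f ι y) ‹_›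

theorem isIso_fibMap_restrict (W : X.Opens) [IsIso (ι ∣_ W)] :
    IsIso (fibMap f ι y ∣_ (f.fiberι y ⁻¹ᵁ W)) := by
  let j := fibMap f ι y
  let W' := f.fiberι y ⁻¹ᵁ W
  have hbig := (isPullback_morphismRestrict j W').paste_vert (isPullback_fibMap f ι y).flip
  let bot := isPullback_morphismRestrict ι W
  let v₁₁ := bot.lift ((j ∣_ W') ≫ (f.fiberι y ∣_ W)) ((j ⁻¹ᵁ W').ι ≫ (ι ≫ f).fiberι y) (by
    rw [Category.assoc, morphismRestrict_ι, Category.assoc, ← fibMap_ι, ← Category.assoc,
      morphismRestrict_ι, Category.assoc])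
  have h1 : v₁₁ ≫ (ι ∣_ W) = (j ∣_ W') ≫ (f.fiberι y ∣_ W) := bot.lift_fst _ _ _
  have h2 : v₁₁ ≫ (ι ⁻¹ᵁ W).ι = (j ⁻¹ᵁ W').ι ≫ (ι ≫ f).fiberι y := bot.lift_snd _ _ _
  rw [← h2, ← morphismRestrict_ι (f.fiberι y) W] at hbig
  have htop := IsPullback.of_bot hbig h1.symm bot
  exact MorphismProperty.of_isPullback (P := MorphismProperty.isomorphisms Scheme.{u}) htop.flip ‹IsIso (ι ∣_ W)›

/-- Geometric reducedness passes between `ι ≫ f` and `f` where `ι` is an isomorphism near the point. -/
theorem GR_comp_iff (p : P) (W : X.Opens) (hp : ι p ∈ W) [IsIso (ι ∣_ W)] : GR (ι ≫ f) p ↔ GR f (ι p) := by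
  let y := (ι ≫ f) p
  let w := (ι ≫ f).asFiber p
  have hw : f.fiberι y (fibMap f ι y w) = ι p :=
    (fibMap_apply f ι y w).trans (congrArg ι ((ι ≫ f).fiberι_asFiber p))
  haveI := isIso_fibMap_restrict f ι y W
  have h := isGeomReducedAt_comp_iff (f.fiberToSpecResidueField y) (fibMap f ι y) w (f.fiberι y ⁻¹ᵁ W)
    (show f.fiberι y (fibMap f ι y w) ∈ W by rw [hw]; exact hp)
  rw [fibMap_toSpec] at h
  exact h.trans (GR_iff f y _ _ hw)

/-- A point with reduced local ring and no proper generization has a field as local ring. -/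
theorem eq_zero_of_mem_maximalIdeal {F : Scheme.{u}} (w : F) (hw : ∀ w', w' ⤳ w → w' = w)
    (hr : _root_.IsReduced (F.presheaf.stalk w)) {a : F.presheaf.stalk w}
    (ha : a ∈ maximalIdeal (F.presheaf.stalk w)) : a = 0 := by
  haveI : Subsingleton (PrimeSpectrum (F.presheaf.stalk w)) := ⟨fun p p' =>
    (F.fromSpecStalk w).isEmbedding.injective
      ((hw _ ((Scheme.range_fromSpecStalk (x := w)).le ⟨p, rfl⟩)).trans
        (hw _ ((Scheme.range_fromSpecStalk (x := w)).le ⟨p', rfl⟩)).symm)⟩
  refine IsNilpotent.eq_zero (nilpotent_iff_mem_prime.2 fun I hI => ?_)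
  have : (⟨I, hI⟩ : PrimeSpectrum (F.presheaf.stalk w)) = IsLocalRing.closedPoint _ := Subsingleton.elim _ _
  have h' : I = maximalIdeal (F.presheaf.stalk w) := congrArg PrimeSpectrum.asIdeal this
  rw [h']; exact ha

/-- A closed immersion with injective stalk map at a point is an isomorphism near it. -/
theorem exists_isIso_restrict_of_stalk {G F : Scheme.{u}} [IsLocallyNoetherian F] (j : G ⟶ F) [IsClosedImmersion j]
    (w : G) (hinj : Function.Injective (j.stalkMap w).hom) : ∃ W : F.Opens, j w ∈ W ∧ IsIso (j ∣_ W) := by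
  haveI : IsIso (j.stalkMap w) :=
    (ConcreteCategory.isIso_iff_bijective _).mpr ⟨hinj, j.stalkMap_surjective w⟩
  refine FiltImm14.exists_isIso_restrict j (j w) (Spec.map (inv (j.stalkMap w)) ≫ G.fromSpecStalk w) ?_
  rw [Category.assoc, ← Scheme.SpecMap_stalkMap_fromSpecStalk, ← Category.assoc, ← Spec.map_comp,
    IsIso.hom_inv_id, Spec.map_id, Category.id_comp]

/-- The fibre of a closed subscheme through a generic point of a geometrically reduced fibre component. -/
theorem GR_comp_of_maximal [LocallyOfFiniteType f] [IsClosedImmersion ι] (p : P)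
    (hmax : ∀ t, t ⤳ ι p → f t = f (ι p) → t = ι p) (h : GR f (ι p)) : GR (ι ≫ f) p := by
  let y := (ι ≫ f) p
  let w := (ι ≫ f).asFiber p
  have hw : f.fiberι y (fibMap f ι y w) = ι p :=
    (fibMap_apply f ι y w).trans (congrArg ι ((ι ≫ f).fiberι_asFiber p))
  haveI := isClosedImmersion_fibMap f ι y
  haveI : LocallyOfFiniteType (f.fiberToSpecResidueField y) := MorphismProperty.pullback_snd f _ inferInstance
  haveI : IsLocallyNoetherian (f.fiber y) :=
    LocallyOfFiniteType.isLocallyNoetherian (f.fiberToSpecResidueField y)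
  have hF : ∀ w', w' ⤳ fibMap f ι y w → w' = fibMap f ι y w := fun w' hw' => by
    refine (f.fiberι y).isEmbedding.injective ?_
    rw [hw]
    exact hmax _ ((hw'.map (f.fiberι y).continuous).trans (specializes_of_eq hw))
      ((f.range_fiberι y).le ⟨w', rfl⟩)
  have hG := (GR_iff f y (fibMap f ι y w) (ι p) hw).2 h
  have hr : _root_.IsReduced ((f.fiber y).presheaf.stalk (fibMap f ι y w)) :=
    GrothLib.SecComp6.isReduced_stalk_of_geomReducedAt f (Y.fromSpecResidueField y) (fibMap f ι y w) hw h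
  have hinj : Function.Injective ((fibMap f ι y).stalkMap w).hom := by
    refine (injective_iff_map_eq_zero _).2 fun a ha => eq_zero_of_mem_maximalIdeal _ hF hr ?_
    refine IsLocalRing.le_maximalIdeal (RingHom.ker_ne_top ((fibMap f ι y).stalkMap w).hom) ?_
    exact ha
  obtain ⟨W, hW, hiso⟩ := exists_isIso_restrict_of_stalk (fibMap f ι y) w hinj
  haveI := hiso
  have h2 := isGeomReducedAt_comp_iff (f.fiberToSpecResidueField y) (fibMap f ι y) w W hW
  rw [fibMap_toSpec] at h2
  exact h2.2 hG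

end GrothLib.AdmComp5
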