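import Groth.Agent.Lib.AdmComp5.Fibre
import Groth.Agent.Lib.NodeNF.Flat
import Groth.Agent.Lib.RedSub.Basic
import Groth.Agent.Lib.OpenAt.Basic
import Groth.Agent.Lib.Chev28.TFAE
import Groth.Agent.Lib.Chev28.UnivRed
import Groth.Agent.Lib.Equidim6.CondTOpen
import Groth.Agent.Lib.AffDom.FibreDim

/-!
# The admissible component through a geometrically reduced fibre component
-/

universe u

set_option autoImplicit false
set_option linter.style.haveILetI false
set_option backward.isDefEq.respectTransparency false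
set_option maxHeartbeats 800000

open CategoryTheory CategoryTheory.Limits AlgebraicGeometry TopologicalSpace Topology IsLocalRing

noncomputable section

namespace GrothLib.AdmComp5

open GrothLib.AffDom (ptDim)

/-- A closed subscheme, flat at a point where the fibre of the ambient scheme is a reduced point, agrees
with the ambient scheme near that point. -/
theorem exists_isIso_restrict_of_flat {X Y P : Scheme.{u}} [IsLocallyNoetherian Y] (f : X ⟶ Y)
    [LocallyOfFiniteType f] (i : P ⟶ X) [IsClosedImmersion i] (p : P)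
    (hmax : ∀ t, t ⤳ i p → f t = f (i p) → t = i p) (hred : GR f (i p))
    (hflat : ((i ≫ f).stalkMap p).hom.Flat) : ∃ W : X.Opens, i p ∈ W ∧ IsIso (i ∣_ W) := by
  haveI : IsLocallyNoetherian X := LocallyOfFiniteType.isLocallyNoetherian f
  haveI : LocallyOfFinitePresentation f := inferInstance
  refine exists_isIso_restrict_of_stalk i p ((RingHom.injective_iff_ker_eq_bot _).2 ?_)
  let y := f (i p)
  let w := f.asFiber (i p)
  have hwmax : ∀ w', w' ⤳ w → w' = w := fun w' hw' => by
    refine (f.fiberι y).isEmbedding.injective ?_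
    rw [f.fiberι_asFiber]
    exact hmax _ ((hw'.map (f.fiberι y).continuous).trans (specializes_of_eq (f.fiberι_asFiber _)))
      ((f.range_fiberι y).le ⟨w', rfl⟩)
  have hsm := ((@GrothLib.FibPd.isGeomReducedAt_iff (IsLocalRing.ResidueField (Y.presheaf.stalk y)) _ _
      (f.fiberToSpecResidueField y) (MorphismProperty.pullback_snd f _ inferInstance) w).mp hred).1
        w specializes_rfl (Chev28.ringKrullDim_stalk_le_zero_of_maximal w hwmax)
  have hfield := (Chev28.formallySmooth_residueField_of_smooth_fibre f y w hwmax hsm).1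
  have key : ∀ q : X, q = i p →
      (maximalIdeal (Y.presheaf.stalk (f q))).map (f.stalkMap q).hom = maximalIdeal (X.presheaf.stalk q) →
      (maximalIdeal (Y.presheaf.stalk (f (i p)))).map (f.stalkMap (i p)).hom = maximalIdeal (X.presheaf.stalk (i p)) := by
    rintro q rfl h; exact h
  have hfield' := key _ (f.fiberι_asFiber (i p)) hfield
  haveI : IsNoetherianRing (X.presheaf.stalk (i p)) := inferInstance
  letI : Algebra (Y.presheaf.stalk y) (X.presheaf.stalk (i p)) := (f.stalkMap (i p)).hom.toAlgebra
  letI : Algebra (Y.presheaf.stalk y) (P.presheaf.stalk p) :=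
    ((i.stalkMap p).hom.comp (f.stalkMap (i p)).hom).toAlgebra
  haveI : Module.Flat (Y.presheaf.stalk y) (P.presheaf.stalk p) := by
    rw [Scheme.Hom.stalkMap_comp, CommRingCat.hom_comp] at hflat
    exact RingHom.flat_algebraMap_iff.1 hflat
  let φ : X.presheaf.stalk (i p) →ₐ[Y.presheaf.stalk y] P.presheaf.stalk p :=
    { (i.stalkMap p).hom with commutes' := fun r => rfl }
  exact NodeNF.ker_eq_bot_of_flat (maximalIdeal (Y.presheaf.stalk y)) hfield'.le φ (i.stalkMap_surjective p)
    ((IsLocalRing.le_maximalIdeal (RingHom.ker_ne_top _)).trans hfield'.ge)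

variable {X Y : Scheme.{u}} [IsLocallyNoetherian Y] (f : X ⟶ Y) [LocallyOfFiniteType f]

/-- **The admissible component.** -/
theorem exists_nhd_subset_and_GR (X' : Closeds X) (hirr : IsIrreducible (X' : Set X)) (z : X) (hz : z ∈ (X' : Set X))
    (hmax : ∀ t, t ⤳ z → f t = f z → t = z) (hred : GR f z)
    (hopen : ∀ w, (Scheme.IdealSheafData.vanishingIdeal X').subschemeι w = z →
      EGA43.IsUnivOpenAt ((Scheme.IdealSheafData.vanishingIdeal X').subschemeι ≫ f) w) :
    ∃ W : X.Opens, z ∈ W ∧ (W : Set X) ⊆ X' ∧ GR f hirr.genericPoint := by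
  let Xs := (Scheme.IdealSheafData.vanishingIdeal X').subscheme
  let ι : Xs ⟶ X := (Scheme.IdealSheafData.vanishingIdeal X').subschemeι
  haveI : IsReduced Xs := RedSub.isReduced_subscheme_vanishingIdeal X'
  have hrange : Set.range ι = (X' : Set X) := RedSub.range_subschemeι_vanishingIdeal X'
  obtain ⟨w, hw⟩ := hrange.ge hz
  have hξ := hirr.isGenericPoint_genericPoint X'.isClosed
  obtain ⟨η, hη⟩ := hrange.ge hξ.mem
  have hηw : η ⤳ w := by
    refine ι.isEmbedding.isInducing.specializes_iff.mp ?_
    rw [hη, hw]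
    exact hξ.specializes hz
  let g := ι ≫ f
  have hgw : GR g w := GR_comp_of_maximal f ι w (by rw [hw]; exact hmax) (by rw [hw]; exact hred)
  let Yr := (Scheme.IdealSheafData.vanishingIdeal (⊤ : Closeds Y)).subscheme
  let r : Yr ⟶ Y := (Scheme.IdealSheafData.vanishingIdeal (⊤ : Closeds Y)).subschemeι
  haveI : IsReduced Yr := RedSub.isReduced_subscheme_vanishingIdeal _
  haveI : Surjective r := ⟨Set.range_eq_univ.mp (RedSub.range_subschemeι_vanishingIdeal _)⟩
  haveI : IsLocallyNoetherian Yr := LocallyOfFiniteType.isLocallyNoetherian r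
  let e := pullback.fst g r
  haveI : IsClosedImmersion e := MorphismProperty.pullback_fst g r inferInstance
  haveI : Surjective e := MorphismProperty.pullback_fst g r ‹Surjective r›
  let g₁ := pullback.snd g r
  let f₀ := pullback.snd f r
  let i : pullback g r ⟶ pullback f r := pullback.map g r f r ι (𝟙 _) (𝟙 _) (by simp [g]) (by simp)
  have hi : i ≫ f₀ = g₁ := by simp [i, f₀, g₁]
  have hie : i ≫ pullback.fst f r = e ≫ ι := pullback.lift_fst _ _ _
  haveI : IsClosedImmersion (i ≫ pullback.fst f r) := by rw [hie]; infer_instance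
  haveI : IsClosedImmersion i := IsClosedImmersion.of_comp i (pullback.fst f r)
  obtain ⟨p, hp⟩ := e.surjective w
  obtain ⟨π, hπ⟩ := e.surjective η
  have hπp : π ⤳ p := e.isEmbedding.isInducing.specializes_iff.mp (by rw [hπ, hp]; exact hηw)
  have hfst : ∀ q, pullback.fst f r (i q) = ι (e q) := fun q => congrArg (fun m : pullback g r ⟶ X => m q) hie
  have hinjX : Function.Injective (pullback.fst f r) := by
    haveI : IsClosedImmersion (pullback.fst f r) := MorphismProperty.pullback_fst f r inferInstance
    exact (pullback.fst f r).isEmbedding.injective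
  have hcond : ∀ t, r (f₀ t) = f (pullback.fst f r t) := fun t =>
    (congrArg (fun m : pullback f r ⟶ Y => m t) pullback.condition).symm
  have hmax₀ : ∀ t, t ⤳ i p → f₀ t = f₀ (i p) → t = i p := fun t ht hft => by
    refine hinjX ?_
    rw [hfst, hp, hw]
    refine hmax _ ((ht.map (pullback.fst f r).continuous).trans (specializes_of_eq (by rw [hfst, hp, hw]))) ?_
    rw [← hcond, hft, hcond, hfst, hp, hw]
  have hred₀ : GR f₀ (i p) := Chev28.isGeomReducedAt_baseChange f r (i p) (by
    rw [hfst, hp, hw]; exact hred)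
  have hred₁ : GR g₁ p := Chev28.isGeomReducedAt_baseChange g r p (by
    change GR g (e p)
    rw [hp]; exact hgw)
  haveI : LocallyOfFiniteType g₁ := MorphismProperty.pullback_snd g r inferInstance
  haveI : LocallyOfFinitePresentation g₁ := inferInstance
  have hflat₁ : (g₁.stalkMap p).hom.Flat := by
    refine Chev28.flat_stalkMap_of_isUnivOpenAt_of_geomReducedAt g₁ p inferInstance hred₁ fun q hq => ?_
    obtain ⟨hqp, hgq, -⟩ := hq
    have hq' : q = p := by
      refine i.isEmbedding.injective (hmax₀ _ (hqp.map i.continuous) ?_)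
      rw [← Scheme.Hom.comp_apply, hi, ← Scheme.Hom.comp_apply, hi]
      exact hgq
    subst hq'
    exact GrothLib.OpenAt.univOpenAt_baseChange (hopen w hw) (IsPullback.of_hasPullback g r) q hp
  have hflat₀ : ((i ≫ f₀).stalkMap p).hom.Flat := by rw [hi]; exact hflat₁
  obtain ⟨W, hW, hiso⟩ := exists_isIso_restrict_of_flat f₀ i p hmax₀ hred₀ hflat₀
  haveI := hiso
  have hπW : i π ∈ W := (hπp.map i.continuous).mem_open W.2 hW
  have hπred : GR g₁ π :=
    (hπp.mem_open (GrothLib.FibPd.isOpen_flat_geomReduced g₁) ⟨hflat₁, hred₁⟩).2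
  have hπ₀ : GR f₀ (i π) := (GR_comp_iff f₀ i π W hπW).1 (by rw [hi]; exact hπred)
  have hgen : GR f hirr.genericPoint := by
    have h := Chev28.isGeomReducedAt_of_baseChange f r (i π) hπ₀
    change GR f (pullback.fst f r (i π)) at h
    rwa [hfst, hπ, hη] at h
  -- the neighbourhood downstairs
  haveI : IsClosedImmersion (pullback.fst f r) := MorphismProperty.pullback_fst f r inferInstance
  haveI : Surjective (pullback.fst f r) := MorphismProperty.pullback_fst f r ‹Surjective r›
  refine ⟨⟨pullback.fst f r '' (W : Set ↥(pullback f r)),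
    (Chev28.isHomeomorph_of_isClosedImmersion_surjective (pullback.fst f r)).isOpenMap _ W.2⟩,
    ⟨i p, hW, by rw [hfst, hp, hw]⟩, ?_, hgen⟩
  rintro _ ⟨t, ht, rfl⟩
  obtain ⟨s, hs⟩ := (i ∣_ W).surjective ⟨t, ht⟩
  have hst : i s.1 = t := by
    have h := congrArg Subtype.val hs
    rw [morphismRestrict_base_coe] at h
    exact h
  rw [← hst, hfst, ← hrange]
  exact ⟨_, rfl⟩

/-- A closed subset with the dimension of the fibre contains the generic point of the fibre component. -/
theorem exists_mem_maximal (X' : Closeds X) (x : X) (hx : x ∈ (X' : Set X))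
    (h1 : ∃! Zc : Set ↥(f.fiber (f x)), Zc ∈ irreducibleComponents (↥(f.fiber (f x)) : Type u) ∧ f.asFiber x ∈ Zc)
    (hdim : FlatMor.localDim ↥((X' : Set X) ∩ f ⁻¹' {f x}) ⟨x, ⟨hx, Set.mem_singleton (f x)⟩⟩ =
      FlatMor.fibreDimAt f x) :
    ∃ η : f.fiber (f x), η ⤳ f.asFiber x ∧ (∀ t, t ⤳ η → t = η) ∧ f.fiberι (f x) η ∈ (X' : Set X) := by
  let ι := (Scheme.IdealSheafData.vanishingIdeal X').subschemeι
  have hrange : Set.range ι = (X' : Set X) := RedSub.range_subschemeι_vanishingIdeal X'
  obtain ⟨v, hv⟩ := hrange.ge hx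
  rw [Chev28.localDim_inter_fibre ι f hrange v x hv] at hdim
  subst hv
  let y := f (ι v)
  let j := fibMap f ι y
  haveI := isClosedImmersion_fibMap f ι y
  haveI : LocallyOfFiniteType (f.fiberToSpecResidueField y) := MorphismProperty.pullback_snd f _ inferInstance
  haveI : LocallyOfFiniteType ((ι ≫ f).fiberToSpecResidueField y) := MorphismProperty.pullback_snd _ _ inferInstance
  let a := (ι ≫ f).asFiber v
  have ha : j a = f.asFiber (ι v) := (f.fiberι y).isEmbedding.injective
    ((fibMap_apply f ι y a).trans ((congrArg ι ((ι ≫ f).fiberι_asFiber v)).trans (f.fiberι_asFiber _).symm))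
  obtain ⟨η', hη'a, hη'max, hη'dim⟩ := Equidim6.exists_maximal_localDim ((ι ≫ f).fiberToSpecResidueField y) a
  rw [Equidim6.localDim_of_maximal ((ι ≫ f).fiberToSpecResidueField y) η' hη'max] at hη'dim
  obtain ⟨ζ, hζa, hζmax, hζdim⟩ := Equidim6.exists_maximal_localDim (f.fiberToSpecResidueField y) (f.asFiber (ι v))
  rw [Equidim6.localDim_of_maximal (f.fiberToSpecResidueField y) ζ hζmax] at hζdim
  have hpt : ptDim (j η') = ptDim η' := by
    refine (GrothLib.Dim.IsEmbedding.topologicalKrullDim_eq (S := closure {j η'})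
      (f := fun t : (closure {η'} : Set _) => j t.1) (j.isEmbedding.comp Topology.IsEmbedding.subtypeVal) ?_).symm
    rw [← Set.image_singleton (f := j) (a := η'), j.isClosedEmbedding.isClosedMap.closure_image_eq_of_continuous
      j.continuous, Set.range_comp', Subtype.range_coe]
  obtain ⟨μ, hμ, hμmax⟩ := GrothLib.AffDom.exists_maximal_point (j η')
  have hμa : μ ⤳ f.asFiber (ι v) := hμ.trans ((hη'a.map j.continuous).trans (specializes_of_eq ha))
  have huniq : μ = ζ := by
    have e := h1.unique ⟨Equidim6.closure_mem_components hμmax, hμa.mem_closure⟩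
      ⟨Equidim6.closure_mem_components hζmax, hζa.mem_closure⟩
    exact (show IsGenericPoint μ (closure {μ}) from rfl).eq (show IsGenericPoint ζ (closure {μ}) from e.symm)
  have heq : μ = j η' := by
    refine GrothLib.AffDom.eq_of_specializes_of_ptDim_le (f.fiberToSpecResidueField y) hμ (le_of_eq ?_)
    rw [huniq, hpt, ← hζdim, ← hη'dim]
    exact hdim.symm
  refine ⟨μ, hμa, hμmax, ?_⟩
  rw [heq, fibMap_apply, ← hrange]
  exact ⟨_, rfl⟩

end GrothLib.AdmComp5
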